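import Groth.Agent.RelSpecLib.OfAffine
import Groth.Agent.QCohLib.Criterion
import Groth.Prelude.Def_Coh
import Mathlib.Algebra.TrivSqZeroExt.Basic

/-!
# The trivial square-zero extension of a scheme by a quasi-coherent module: the rings
-/

set_option autoImplicit false
set_option linter.style.haveILetI false
set_option linter.unusedVariables false
set_option backward.isDefEq.respectTransparency false

universe u

open CategoryTheory AlgebraicGeometry TopologicalSpace Opposite TrivSqZeroExt

noncomputable section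

namespace Groth.Agent.SplitRibLib

variable {D : Scheme.{u}} (L : D.Modules)

instance opMod (U : D.Opens) : Module Γ(D, U)ᵐᵒᵖ Γ(L, U) :=
  Module.compHom _ ((RingHom.id Γ(D, U)).fromOpposite fun a b => mul_comm a b)

instance centralMod (U : D.Opens) : IsCentralScalar Γ(D, U) Γ(L, U) := ⟨fun _ _ => rfl⟩

/-- The ring of the extension over an open. -/
abbrev Ext0 (U : D.Opens) : Type u := TrivSqZeroExt Γ(D, U) Γ(L, U)

/-- Restriction. -/
def res {U V : D.Opens} (h : V ≤ U) : Ext0 L U →+* Ext0 L V where
  toFun x := inl (D.presheaf.map (homOfLE h).op x.fst) + inr (L.presheaf.map (homOfLE h).op x.snd)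
  map_zero' := by
    refine TrivSqZeroExt.ext ?_ ?_ <;> simp
  map_one' := by
    refine TrivSqZeroExt.ext ?_ ?_ <;> simp
  map_add' x y := by
    refine TrivSqZeroExt.ext ?_ ?_ <;> simp [map_add]
  map_mul' x y := by
    refine TrivSqZeroExt.ext ?_ ?_
    · simp
    · simp only [snd_add, snd_inl, snd_inr, zero_add, snd_mul, fst_add, fst_inl, fst_inr, add_zero,
        op_smul_eq_smul, map_add]
      rw [L.map_smul, L.map_smul]

@[simp] theorem fst_res {U V : D.Opens} (h : V ≤ U) (x : Ext0 L U) :
    (res L h x).fst = D.presheaf.map (homOfLE h).op x.fst := by simp [res]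

@[simp] theorem snd_res {U V : D.Opens} (h : V ≤ U) (x : Ext0 L U) :
    (res L h x).snd = L.presheaf.map (homOfLE h).op x.snd := by simp [res]

theorem res_self {U : D.Opens} (h : U ≤ U) : res L h = RingHom.id _ := by
  refine RingHom.ext fun x => TrivSqZeroExt.ext ?_ ?_
  · rw [fst_res]; exact ConcreteCategory.congr_hom (D.presheaf.map_id _) _
  · rw [snd_res]; exact ConcreteCategory.congr_hom (L.presheaf.map_id _) _

theorem res_comp {U V W : D.Opens} (h : V ≤ U) (h' : W ≤ V) : (res L h').comp (res L h) = res L (h'.trans h) := by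
  refine RingHom.ext fun x => TrivSqZeroExt.ext ?_ ?_
  · simp only [RingHom.comp_apply, fst_res]
    rw [← ConcreteCategory.comp_apply, ← Functor.map_comp]; rfl
  · simp only [RingHom.comp_apply, snd_res]
    rw [← ConcreteCategory.comp_apply, ← Functor.map_comp]; rfl

theorem res_inr {U V : D.Opens} (h : V ≤ U) (m : Γ(L, U)) :
    res L h (inr m) = inr (L.presheaf.map (homOfLE h).op m) := by
  refine TrivSqZeroExt.ext ?_ ?_ <;> simp

theorem res_inl {U V : D.Opens} (h : V ≤ U) (a : Γ(D, U)) :
    res L h (inl a) = inl (D.presheaf.map (homOfLE h).op a) := by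
  refine TrivSqZeroExt.ext ?_ ?_ <;> simp

variable [Coh.IsQCoh L]

theorem isLocalization_res {U : D.Opens} (hU : IsAffineOpen U) (f : Γ(D, U)) :
    letI := (res L (D.basicOpen_le f)).toAlgebra
    IsLocalization.Away (inl f : Ext0 L U) (Ext0 L (D.basicOpen f)) := by
  letI := (res L (D.basicOpen_le f)).toAlgebra
  letI : Algebra Γ(D, U) Γ(D, D.basicOpen f) := (D.presheaf.map (homOfLE (D.basicOpen_le f)).op).hom.toAlgebra
  haveI : IsLocalization.Away f Γ(D, D.basicOpen f) := hU.isLocalization_basicOpen f
  have hL := QCohLib.locAt L hU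
  let f' : Γ(D, D.basicOpen f) := D.presheaf.map (homOfLE (D.basicOpen_le f)).op f
  have hf' : IsUnit f' := RingedSpace.isUnit_res_basicOpen _ f
  have hmap : ∀ n : ℕ, algebraMap (Ext0 L U) (Ext0 L (D.basicOpen f)) (inl f ^ n) = inl (f' ^ n) := fun n => by
    rw [inl_pow]
    exact (res_inl L (D.basicOpen_le f) (f ^ n)).trans (congrArg inl (map_pow _ f n))
  refine (isLocalization_iff _ _).2 ⟨?_, ?_, ?_⟩
  · rintro ⟨_, n, rfl⟩
    rw [hmap]
    exact (hf'.pow n).map (inlHom Γ(D, D.basicOpen f) Γ(L, D.basicOpen f))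
  · intro z
    obtain ⟨⟨a, _, n, rfl⟩, ha⟩ := IsLocalization.surj (Submonoid.powers f) z.fst
    obtain ⟨k, m, hm⟩ := hL.extend f z.snd
    rw [CohBase.sc_apply, map_pow] at hm
    change z.fst * D.presheaf.map (homOfLE (D.basicOpen_le f)).op (f ^ n) = D.presheaf.map (homOfLE (D.basicOpen_le f)).op a at ha
    rw [map_pow] at ha
    refine ⟨⟨inl (a * f ^ k) + inr (f ^ n • m), ⟨_, n + k, rfl⟩⟩, ?_⟩
    show z * algebraMap _ _ (inl f ^ (n + k)) = res L (D.basicOpen_le f) _
    rw [hmap]
    refine TrivSqZeroExt.ext ?_ ?_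
    · simp only [fst_mul, fst_inl, fst_res, fst_add, fst_inr, add_zero, map_mul, map_pow, pow_add]
      rw [← mul_assoc, ha]
    · simp only [snd_mul, snd_inl, smul_zero, zero_add, fst_inl, op_smul_eq_smul, snd_res, snd_add, snd_inr]
      rw [L.map_smul, hm, map_pow, pow_add, mul_smul]
  · intro x y h
    change res L _ x = res L _ y at h
    have h1 : D.presheaf.map (homOfLE (D.basicOpen_le f)).op x.fst = D.presheaf.map (homOfLE (D.basicOpen_le f)).op y.fst := by
      simpa using congrArg TrivSqZeroExt.fst h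
    have h2 : L.presheaf.map (homOfLE (D.basicOpen_le f)).op (x.snd - y.snd) = 0 := by
      rw [map_sub, sub_eq_zero]; simpa using congrArg TrivSqZeroExt.snd h
    obtain ⟨⟨_, n, rfl⟩, hn⟩ := IsLocalization.exists_of_eq (M := Submonoid.powers f)
      (S := Γ(D, D.basicOpen f)) h1
    obtain ⟨k, hk⟩ := hL.kill f _ h2
    rw [CohBase.sc_apply, show (homOfLE (le_refl U)).op = 𝟙 (op U) from Subsingleton.elim _ _, D.presheaf.map_id] at hk
    change (f ^ k) • (x.snd - y.snd) = 0 at hk
    rw [smul_sub, sub_eq_zero] at hk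
    refine ⟨⟨_, n + k, rfl⟩, ?_⟩
    show inl f ^ (n + k) * x = inl f ^ (n + k) * y
    rw [inl_pow]
    refine TrivSqZeroExt.ext ?_ ?_
    · simp only [fst_mul, fst_inl, pow_add, mul_comm (f ^ n) (f ^ k), mul_assoc]
      exact congrArg (f ^ k * ·) hn
    · simp only [snd_mul, snd_inl, smul_zero, add_zero, fst_inl, pow_add, mul_smul, hk]

/-- The trivial extension, over the affine opens. -/
def extData : RelSpecLib.AffData D where
  F :=
    { obj := fun U => CommRingCat.of (Ext0 L U.unop.1)
      map := fun {U V} i => CommRingCat.ofHom (res L (Scheme.AffineZariskiSite.toOpens_mono i.unop.le))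
      map_id := fun U => CommRingCat.hom_ext (res_self L _)
      map_comp := fun {U V W} i k => CommRingCat.hom_ext
        (res_comp L (Scheme.AffineZariskiSite.toOpens_mono i.unop.le)
          (Scheme.AffineZariskiSite.toOpens_mono k.unop.le)).symm }
  α :=
    { app := fun U => CommRingCat.ofHom (inlHom Γ(D, U.unop.1) Γ(L, U.unop.1))
      naturality := fun U V i => CommRingCat.hom_ext (RingHom.ext fun r =>
        (res_inl L (Scheme.AffineZariskiSite.toOpens_mono i.unop.le) r).symm) }
  loc U f := isLocalization_res L U.2 f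

/-- The trivial extension of `D` by `L`. -/
def ext : Scheme.{u} := (extData L).spec

/-- The projection. -/
def proj : ext L ⟶ D := (extData L).π

instance : IsAffineHom (proj L) := RelSpecLib.AffData.isAffineHom_π _

/-- The functions of the extension over an affine open. -/
def sect {U : D.Opens} (hU : IsAffineOpen U) : Γ(ext L, proj L ⁻¹ᵁ U) →+* Ext0 L U :=
  ((extData L).aff ⟨U, hU⟩).hom

theorem sect_bijective {U : D.Opens} (hU : IsAffineOpen U) : Function.Bijective (sect L hU) :=
  ConcreteCategory.bijective_of_isIso ((extData L).aff ⟨U, hU⟩)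

theorem sect_proj {U : D.Opens} (hU : IsAffineOpen U) (a : Γ(D, U)) : sect L hU ((proj L).app U a) = inl a :=
  ConcreteCategory.congr_hom ((extData L).str_aff ⟨U, hU⟩) a

set_option maxHeartbeats 1000000 in
theorem sect_res (U V : D.AffineZariskiSite) (i : V ⟶ U) (hle : V.1 ≤ U.1)
    (x : Γ(ext L, proj L ⁻¹ᵁ U.1)) :
    sect L V.2 ((ext L).presheaf.map (homOfLE ((proj L).preimage_mono hle)).op x) = res L hle (sect L U.2 x) := by
  have e := (extData L).affNat.naturality i.op
  change (extData L).alg.presheaf.map (homOfLE hle).op ≫ (extData L).aff V =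
    (extData L).aff U ≫ CommRingCat.ofHom (res L hle) at e
  exact ConcreteCategory.congr_hom e x

end Groth.Agent.SplitRibLib
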