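import Groth.Agent.SplitRibLib.Scheme
import Groth.Agent.InvExt.Main
import Groth.Agent.ParaFLib.Stalk
import Mathlib.AlgebraicGeometry.Morphisms.FiniteType

/-!
# The split ribbon is of finite type over the base
-/

set_option autoImplicit false
set_option linter.style.haveILetI false
set_option backward.isDefEq.respectTransparency false

universe u

open CategoryTheory AlgebraicGeometry TopologicalSpace Opposite TrivSqZeroExt

noncomputable section

namespace Groth.Agent.SplitRibLib

variable {D : Scheme.{u}} (L : D.Modules) [Coh.IsQCoh L]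

theorem locallyOfFiniteType_proj (hL : PicF.IsInvertible L) : LocallyOfFiniteType (proj L) := by
  refine (HasRingHomProperty.iff_exists_appLE (P := @LocallyOfFiniteType)
    (RingHom.finiteType_stableUnderComposition.stableUnderCompositionWithLocalizationAway
      RingHom.finiteType_holdsForLocalizationAway).left).2 fun x => ?_
  obtain ⟨W, e, hxW, he⟩ := ParaFLib.exists_gen_nhd hL (proj L x)
  obtain ⟨_, ⟨U, hU, rfl⟩, hxU, hle⟩ := D.isBasis_affineOpens.exists_subset_of_mem_open hxW W.isOpen
  have hU' : IsAffineOpen U := hU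
  have he' := he.res (W' := U) hle
  refine ⟨⟨U, hU'⟩, ⟨proj L ⁻¹ᵁ U, hU'.preimage _⟩, hxU, le_rfl, ?_⟩
  rw [← Scheme.Hom.app_eq_appLE]
  refine RingHom.Finite.finiteType ?_
  obtain ⟨z, hz⟩ := (sect_bijective L hU').2 (inr (L.presheaf.map (homOfLE hle).op e))
  letI := ((proj L).app U).hom.toAlgebra
  show Module.Finite Γ(D, U) Γ(ext L, proj L ⁻¹ᵁ U)
  refine ⟨⟨({1, z} : Set Γ(ext L, proj L ⁻¹ᵁ U)).toFinite.toFinset, eq_top_iff.2 fun y _ => ?_⟩⟩
  rw [Set.Finite.coe_toFinset, Submodule.mem_span_pair]
  obtain ⟨b, hb⟩ := (he' U le_rfl).2 (sect L hU' y).snd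
  simp only [ParaFLib.res_self] at hb
  refine ⟨(sect L hU' y).fst, b, (sect_bijective L hU').1 ?_⟩
  rw [map_add, Algebra.smul_def, Algebra.smul_def, map_mul, map_mul, map_one, mul_one]
  show sect L hU' ((proj L).app U _) + sect L hU' ((proj L).app U _) * sect L hU' z = _
  rw [sect_proj, sect_proj, hz, inl_mul_inr]
  refine TrivSqZeroExt.ext ?_ ?_
  · simp
  · simp only [snd_add, snd_inl, snd_inr, zero_add]
    exact hb

end Groth.Agent.SplitRibLib
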