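import Groth.Agent.SplitRibLib.Data
import Groth.Agent.ConormalLib.Chart
import Groth.Agent.DefGlueLib.Iso
import Groth.Agent.FormalLib.ProperSupport

/-!
# The split ribbon on a reduced scheme
-/

set_option autoImplicit false
set_option linter.style.haveILetI false
set_option backward.isDefEq.respectTransparency false
set_option maxHeartbeats 1000000

universe u

open CategoryTheory CategoryTheory.Limits AlgebraicGeometry TopologicalSpace Opposite TrivSqZeroExt
open Groth.Agent.PullbackMod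

noncomputable section

namespace Groth.Agent.SplitRibLib

variable {D : Scheme.{u}} (L : D.Modules) [Coh.IsQCoh L] [IsReduced D]

theorem nilradical_sect {U : D.Opens} (hU : IsAffineOpen U) (x : Γ(ext L, proj L ⁻¹ᵁ U)) :
    x ∈ (ext L).nilradical.ideal ⟨proj L ⁻¹ᵁ U, hU.preimage _⟩ ↔ (sect L hU x).fst = 0 := by
  rw [Scheme.nilradical, Scheme.IdealSheafData.radical_ideal, Scheme.IdealSheafData.ideal_bot]
  change x ∈ (⊥ : Ideal Γ(ext L, proj L ⁻¹ᵁ U)).radical ↔ _
  constructor
  · rintro ⟨n, hn⟩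
    have h := congrArg (fun y => (sect L hU y).fst) ((Submodule.mem_bot _).1 hn)
    simp only [map_pow, fst_pow, map_zero, fst_zero] at h
    exact eq_zero_of_pow_eq_zero h
  · intro h
    refine ⟨2, (Submodule.mem_bot _).2 ((sect_bijective L hU).1 ?_)⟩
    rw [map_pow, map_zero, sq]
    refine TrivSqZeroExt.ext ?_ ?_ <;> simp [h]

theorem mul_eq_zero_of_fst {U : D.Opens} (hU : IsAffineOpen U) {x y : Γ(ext L, proj L ⁻¹ᵁ U)}
    (hx : (sect L hU x).fst = 0) (hy : (sect L hU y).fst = 0) : x * y = 0 := by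
  refine (sect_bijective L hU).1 ?_
  rw [map_mul, map_zero]
  refine TrivSqZeroExt.ext ?_ ?_ <;> simp [hx, hy]

theorem nilradical_sq : (ext L).nilradical ^ 2 = ⊥ := by
  refine Scheme.IdealSheafData.ext_of_iSup_eq_top
    (fun U : D.affineOpens => (⟨proj L ⁻¹ᵁ U.1, U.2.preimage _⟩ : (ext L).affineOpens))
    (by rw [← Scheme.Hom.preimage_iSup, iSup_affineOpens_eq_top D, Scheme.Hom.preimage_top]) fun U => ?_
  rw [Scheme.IdealSheafData.ideal_pow, Pi.pow_apply, sq]
  refine le_bot_iff.1 (Ideal.mul_le.2 fun x hx y hy => (Submodule.mem_bot _).2 ?_)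
  exact mul_eq_zero_of_fst L U.2 ((nilradical_sect L U.2 x).1 hx) ((nilradical_sect L U.2 y).1 hy)

/-- The reduction, over the base. -/
def red : (ext L).nilradical.subscheme ⟶ D := (ext L).nilradical.subschemeι ≫ proj L

instance : IsIso (red L) := by
  refine DefGlueLib.isIso_of_affine _ fun z => ?_
  obtain ⟨_, ⟨U, hU', rfl⟩, hz, -⟩ := D.isBasis_affineOpens.exists_subset_of_mem_open (Set.mem_univ z) isOpen_univ
  have hU : IsAffineOpen U := hU'
  refine ⟨U, hz, hU, (hU.preimage (proj L)).preimage (ext L).nilradical.subschemeι, ?_⟩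
  rw [red, Scheme.Hom.comp_app, Scheme.IdealSheafData.subschemeι_app _ ⟨proj L ⁻¹ᵁ U, hU.preimage _⟩,
    ← Category.assoc]
  haveI : IsIso ((proj L).app U ≫ CommRingCat.ofHom (Ideal.Quotient.mk
      ((ext L).nilradical.ideal ⟨proj L ⁻¹ᵁ U, hU.preimage _⟩))) := by
    rw [ConcreteCategory.isIso_iff_bijective]
    refine ⟨(injective_iff_map_eq_zero _).2 fun a ha => ?_, fun q => ?_⟩
    · have := (nilradical_sect L hU _).1 (Ideal.Quotient.eq_zero_iff_mem.1 ha)
      exact ((congrArg TrivSqZeroExt.fst (sect_proj L hU a)).trans (fst_inl _ _)).symm.trans this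
    · obtain ⟨x, rfl⟩ := Ideal.Quotient.mk_surjective q
      refine ⟨(sect L hU x).fst, Ideal.Quotient.eq.2 ((nilradical_sect L hU _).2 ?_)⟩
      rw [map_sub, fst_sub, sub_eq_zero]
      exact (congrArg TrivSqZeroExt.fst (sect_proj L hU _)).trans (fst_inl _ _)
  infer_instance

/-- The section of the projection. -/
def zeroSec : D ⟶ ext L := inv (red L) ≫ (ext L).nilradical.subschemeι

theorem zeroSec_proj : zeroSec L ≫ proj L = 𝟙 D := by
  rw [zeroSec, Category.assoc]; exact IsIso.inv_hom_id (red L)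

instance : IsClosedImmersion (zeroSec L) := by unfold zeroSec; infer_instance

theorem ker_zeroSec : (zeroSec L).ker = (ext L).nilradical := by
  rw [zeroSec, Scheme.Hom.ker_comp_of_isIso, Scheme.IdealSheafData.ker_subschemeι]

theorem zeroSec_preimage (U : D.Opens) : zeroSec L ⁻¹ᵁ (proj L ⁻¹ᵁ U) = U := by
  rw [← Scheme.Hom.comp_preimage, zeroSec_proj]; rfl

theorem mem_ker_zeroSec {U : D.Opens} (hU : IsAffineOpen U) (x : Γ(ext L, proj L ⁻¹ᵁ U)) :
    x ∈ RingHom.ker ((zeroSec L).app (proj L ⁻¹ᵁ U)).hom ↔ (sect L hU x).fst = 0 := by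
  rw [← nilradical_sect, ← ker_zeroSec, Scheme.Hom.ker_apply]

theorem exists_idealSect {U : D.Opens} (hU : IsAffineOpen U) (m : Γ(L, U)) :
    ∃ z : Γ(ClSub.idealMod (zeroSec L).ker, proj L ⁻¹ᵁ U),
      sect L hU (OmegaSh.idealSect (zeroSec L).ker _ z) = inr m := by
  obtain ⟨x, hx⟩ := (sect_bijective L hU).2 (inr m)
  obtain ⟨z, hz⟩ := ConormalLib.exists_idealSect_eq (zeroSec L) _ x
    (RingHom.mem_ker.1 ((mem_ker_zeroSec L hU x).2 (by rw [hx, fst_inr])))
  exact ⟨z, by rw [hz, hx]⟩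

/-- An element of the ideal, from a section of `L`. -/
def lift {U : D.Opens} (hU : IsAffineOpen U) (m : Γ(L, U)) : Γ(ClSub.idealMod (zeroSec L).ker, proj L ⁻¹ᵁ U) :=
  (exists_idealSect L hU m).choose

theorem sect_lift {U : D.Opens} (hU : IsAffineOpen U) (m : Γ(L, U)) :
    sect L hU (OmegaSh.idealSect (zeroSec L).ker _ (lift L hU m)) = inr m :=
  (exists_idealSect L hU m).choose_spec

theorem lift_eq {U : D.Opens} (hU : IsAffineOpen U) (m : Γ(L, U))
    (z : Γ(ClSub.idealMod (zeroSec L).ker, proj L ⁻¹ᵁ U))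
    (h : sect L hU (OmegaSh.idealSect (zeroSec L).ker _ z) = inr m) : lift L hU m = z :=
  OmegaAffLib.idealSect_injective _ _ ((sect_bijective L hU).1 ((sect_lift L hU m).trans h.symm))

/-- The conormal sheaf of the zero section. -/
abbrev con : D.Modules := (Scheme.Modules.pullback (zeroSec L)).obj (ClSub.idealMod (zeroSec L).ker)

/-- Sections of `L` as sections of the conormal sheaf, over an affine open. -/
def toConAff {U : D.Opens} (hU : IsAffineOpen U) : Γ(L, U) →+ Γ(con L, U) where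
  toFun m := pullMap (zeroSec L) _ (W := proj L ⁻¹ᵁ U) (zeroSec_preimage L U).ge (lift L hU m)
  map_zero' := by
    rw [lift_eq L hU 0 0 (by rw [map_zero, map_zero, inr_zero]), map_zero]
  map_add' a b := by
    rw [lift_eq L hU (a + b) (lift L hU a + lift L hU b) (by
      rw [map_add, map_add, sect_lift, sect_lift, inr_add]), map_add]

theorem zeroSec_appLE_proj (U : D.Opens) (r : Γ(D, U)) :
    (zeroSec L).appLE (proj L ⁻¹ᵁ U) U (zeroSec_preimage L U).ge ((proj L).app U r) = r := by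
  rw [← ConcreteCategory.comp_apply, Scheme.Hom.app_eq_appLE, Scheme.Hom.appLE_comp_appLE]
  have key : ∀ (φ : D ⟶ D) (_ : φ = 𝟙 D) (e : U ≤ φ ⁻¹ᵁ U), φ.appLE U U e r = r := by
    rintro _ rfl e
    rw [Scheme.Hom.appLE]
    simp
    exact ConcreteCategory.congr_hom (D.presheaf.map_id _) r
  exact key _ (zeroSec_proj L) _

theorem toConAff_smul {U : D.Opens} (hU : IsAffineOpen U) (r : Γ(D, U)) (m : Γ(L, U)) :
    toConAff L hU (r • m) = r • toConAff L hU m := by
  show pullMap _ _ _ (lift L hU (r • m)) = r • pullMap _ _ _ (lift L hU m)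
  rw [lift_eq L hU (r • m) ((proj L).app U r • lift L hU m) (by
    rw [OmegaAffLib.idealSect_smul, map_mul, sect_proj, sect_lift, inl_mul_inr]),
    pullMap_smul, zeroSec_appLE_proj]

theorem toConAff_res (U V : D.AffineZariskiSite) (i : V ⟶ U) (hle : V.1 ≤ U.1) (m : Γ(L, U.1)) :
    toConAff L V.2 (L.presheaf.map (homOfLE hle).op m) = (con L).presheaf.map (homOfLE hle).op (toConAff L U.2 m) := by
  show pullMap _ _ _ (lift L V.2 _) = (con L).presheaf.map _ (pullMap _ _ _ (lift L U.2 m))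
  rw [lift_eq L V.2 _ ((ClSub.idealMod (zeroSec L).ker).presheaf.map (homOfLE ((proj L).preimage_mono hle)).op
      (lift L U.2 m)) (by
    rw [ConormalLib.idealSect_res, sect_res L U V i hle, sect_lift, res_inr]),
    pullMap_res (zeroSec L) _ _ ((proj L).preimage_mono hle) hle (zeroSec_preimage L V.1).ge]

theorem toConAff_bijective {U : D.Opens} (hU : IsAffineOpen U) : Function.Bijective (toConAff L hU) := by
  have hW : IsAffineOpen (proj L ⁻¹ᵁ U) := hU.preimage _
  obtain ⟨hpre, hs⟩ := ConormalLib.chart_of_le (zeroSec L) hW (fun x _ => (coborder_eq_univ_iff.mpr (zeroSec L).isClosedEmbedding.isClosed_range).ge (Set.mem_univ x))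
  have key : ∀ (W' : D.Opens) (e : W' ≤ zeroSec L ⁻¹ᵁ (proj L ⁻¹ᵁ U)), W' = zeroSec L ⁻¹ᵁ (proj L ⁻¹ᵁ U) →
      Function.Surjective (pullMap (zeroSec L) (ClSub.idealMod (zeroSec L).ker) e) ∧
      ∀ z, pullMap (zeroSec L) (ClSub.idealMod (zeroSec L).ker) e z = 0 ↔
        OmegaSh.idealSect (zeroSec L).ker _ z ∈ RingHom.ker ((zeroSec L).app (proj L ⁻¹ᵁ U)).hom *
          RingHom.ker ((zeroSec L).app (proj L ⁻¹ᵁ U)).hom := by
    rintro _ e rfl
    exact ConormalLib.cls_surjective_and_eq_zero_iff (zeroSec L) hW hpre hs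
  obtain ⟨hsurj, hzero⟩ := key U (zeroSec_preimage L U).ge (zeroSec_preimage L U).symm
  refine ⟨(injective_iff_map_eq_zero _).2 fun m hm => ?_, fun y => ?_⟩
  · have h := (hzero _).1 hm
    have h0 : OmegaSh.idealSect (zeroSec L).ker _ (lift L hU m) = 0 := by
      refine (Submodule.mem_bot Γ(ext L, proj L ⁻¹ᵁ U)).1 ((Ideal.mul_le.2 fun a ha b hb => ?_) h)
      exact (Submodule.mem_bot _).2
        (mul_eq_zero_of_fst L hU ((mem_ker_zeroSec L hU a).1 ha) ((mem_ker_zeroSec L hU b).1 hb))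
    have := sect_lift L hU m
    rw [h0, map_zero] at this
    simpa using congrArg TrivSqZeroExt.snd this.symm
  · obtain ⟨z, rfl⟩ := hsurj y
    refine ⟨(sect L hU (OmegaSh.idealSect (zeroSec L).ker _ z)).snd, ?_⟩
    show pullMap _ _ _ (lift L hU _) = _
    rw [lift_eq L hU _ z ?_]
    refine TrivSqZeroExt.ext ?_ (by rw [snd_inr])
    rw [fst_inr, (mem_ker_zeroSec L hU _).1 (RingHom.mem_ker.2 (ConormalLib.app_idealSect (zeroSec L) _ z))]

/-- `L` to the conormal sheaf, on presheaves. -/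
def toConPre : L.presheaf ⟶ (con L).presheaf :=
  Functor.IsCoverDense.restrictHomEquivHom (G := Scheme.AffineZariskiSite.toOpensFunctor D)
    (K := Opens.grothendieckTopology D) (ℱ := L.presheaf)
    (ℱ' := (⟨(con L).presheaf, (con L).isSheaf⟩ : TopCat.Sheaf Ab.{u} D.carrier))
    { app := fun U => AddCommGrpCat.ofHom (toConAff L U.unop.2)
      naturality := fun U V i => AddCommGrpCat.hom_ext (AddMonoidHom.ext fun m =>
        toConAff_res L U.unop V.unop i.unop (Scheme.AffineZariskiSite.toOpens_mono i.unop.le) m) }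

theorem toConPre_app (U : D.AffineZariskiSite) (m : Γ(L, U.1)) :
    (toConPre L).app (op U.1) m = toConAff L U.2 m :=
  ConcreteCategory.congr_hom (NatTrans.congr_app ((Functor.IsCoverDense.restrictHomEquivHom
    (G := Scheme.AffineZariskiSite.toOpensFunctor D) (K := Opens.grothendieckTopology D) (ℱ := L.presheaf)
    (ℱ' := (⟨(con L).presheaf, (con L).isSheaf⟩ : TopCat.Sheaf Ab.{u} D.carrier))).symm_apply_apply _)
      (op U)) m

theorem toConPre_smul (W : D.Opens) (r : Γ(D, W)) (x : Γ(L, W)) :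
    ((toConPre L).app (op W) (r • x) : Γ(con L, W)) = r • ((toConPre L).app (op W) x : Γ(con L, W)) := by
  let F' : TopCat.Sheaf Ab.{u} D.carrier := ⟨(con L).presheaf, (con L).isSheaf⟩
  refine TopCat.Sheaf.eq_of_locally_eq' F'
    (fun a : {U : D.Opens // IsAffineOpen U ∧ U ≤ W} => a.1) W (fun a => homOfLE a.2.2) (fun y hy => ?_) _ _
    fun a => ?_
  · obtain ⟨_, ⟨V, hV, rfl⟩, hyV, hVW⟩ := D.isBasis_affineOpens.exists_subset_of_mem_open hy W.2
    exact Opens.mem_iSup.2 ⟨⟨V, hV, hVW⟩, hyV⟩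
  · have hn : ∀ z : Γ(L, W), (con L).presheaf.map (homOfLE a.2.2).op ((toConPre L).app (op W) z) =
        (toConPre L).app (op a.1) (L.presheaf.map (homOfLE a.2.2).op z) := fun z =>
      (ConcreteCategory.congr_hom ((toConPre L).naturality (homOfLE a.2.2).op) z).symm
    show (con L).presheaf.map (homOfLE a.2.2).op ((toConPre L).app (op W) (r • x)) =
      (con L).presheaf.map (homOfLE a.2.2).op (r • ((toConPre L).app (op W) x : Γ(con L, W)))
    rw [hn, L.map_smul (homOfLE a.2.2), Scheme.Modules.map_smul (con L) (homOfLE a.2.2), hn,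
      toConPre_app L ⟨a.1, a.2.1⟩, toConPre_app L ⟨a.1, a.2.1⟩]
    exact toConAff_smul L a.2.1 _ _

/-- `L` to the conormal sheaf. -/
def toCon : L ⟶ con L := ⟨PresheafOfModules.homMk (toConPre L) fun W r x => toConPre_smul L W.unop r x⟩

/-- The conormal sheaf of the zero section is `L`. -/
theorem nonempty_con_iso : Nonempty (con L ≅ L) := by
  haveI : IsIso (toCon L) := FormalLib.isIso_of_affine _ fun U hU => by
    have : ((toCon L).app U : Γ(L, U) → Γ(con L, U)) = toConAff L hU := funext fun m => toConPre_app L ⟨U, hU⟩ m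
    rw [this]
    exact toConAff_bijective L hU
  exact ⟨(asIso (toCon L)).symm⟩

end Groth.Agent.SplitRibLib
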